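import Cfsg.Agent.H778.HT.OutExc
import Cfsg.Agent.H234.HT.OutD

/-!
# S4933, part (O): the data `OutD` for `G₂`, `F₄`, `E₆`, `E₇`, `E₈` (helper778)

* `outD_untw` : `|F| = r ^ f`, `5 ≤ p`, `D.group F` simple and not abelian: `OutD p r f (D.group F)`.
-/

set_option autoImplicit false
set_option linter.unusedSectionVars false

open Cfsg Polynomial

namespace Cfsg.Agent.H778.HT

open CoxeterSystem Cfsg.Agent.ChevalleyStructure.CoxeterGeom Cfsg.Agent.Tits.Roots Cfsg.Agent.Tits.Core
  Cfsg.Agent.Nodes.Reps Cfsg.Agent.Nodes.BNOf Cfsg.Agent.Nodes.OppDec Cfsg.Agent.Nodes.RGDChev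
  Cfsg.Agent.KFacts.RgdAut Cfsg.Agent.KFacts.RgdDiag Cfsg.Agent.KFacts.RgdRigid
  Cfsg.Agent.KFacts.RgdField Cfsg.Agent.KFacts.RgdTau Cfsg.Agent.KFacts.RgdChevCoord
open Cfsg.Lie Cfsg.Agent.ChevalleyStructure Cfsg.Agent.ChevalleyStructure.Elts
  Cfsg.Agent.ChevalleyStructure.NPerm Cfsg.Agent.ChevalleyStructure.CoxeterGeomTypes
open Cfsg.Agent.CpAut.RgdUntw Cfsg.Agent.H79.FieldAuts Cfsg.Agent.H79.OutChev

section untw

variable {D : ChevalleyDatum} {l : ℕ} {M : CoxeterMatrix (Fin l)} (hp : IsType D l M) {F : Type} [Field F] [Finite F]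

include hp in
/-- the field automorphisms act on the characteristic polynomials -/
theorem cp_field (γ : RingAut F) : CP (fieldHom hp.inList F γ) γ := by
  rw [← Cfsg.Agent.H295.FourOutChev.fld_eq hp]
  exact CP.of_map fun y => fld_coe γ y

include hp in
/-- and so do their conjugates under automorphisms -/
theorem cp_conj_field (β : MulAut ↥(D.group F)) (γ : RingAut F) :
    CP (β * fieldHom hp.inList F γ * β⁻¹) γ := by
  have hD := hp.inList
  obtain ⟨y, d, g, f, hd, hg, hf, hβ⟩ := Cfsg.Agent.H79.Steinberg.exists_fac_mul hD β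
  obtain ⟨σ, rfl⟩ := (isFieldAut_iff hD f).1 hf
  obtain ⟨π, -, hπ⟩ := isGraphAut_isGr hD hg
  have e1 : fieldHom hD F σ * fieldHom hD F γ = fieldHom hD F γ * fieldHom hD F σ := by
    have hc := isCyclic_ringAut F
    have h3 : σ * γ = γ * σ := (IsCyclic.commGroup (α := RingAut F)).mul_comm σ γ
    rw [← map_mul, h3, map_mul]
  have e2 := hπ.comm_field γ
  have e3 : β * fieldHom hD F γ * β⁻¹ = MulAut.conj y * (d * fieldHom hD F γ * d⁻¹) * (MulAut.conj y)⁻¹ := by
    rw [hβ]
    calc MulAut.conj y * d * g * fieldHom hD F σ * fieldHom hD F γ * (MulAut.conj y * d * g * fieldHom hD F σ)⁻¹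
        = MulAut.conj y * d * g * (fieldHom hD F σ * fieldHom hD F γ) * (MulAut.conj y * d * g * fieldHom hD F σ)⁻¹ := by
          group
      _ = MulAut.conj y * d * (g * fieldHom hD F γ) * (MulAut.conj y * d * g)⁻¹ := by rw [e1]; group
      _ = _ := by rw [e2]; group
  have hdC : CP d (1 : F ≃+* F) := by
    obtain ⟨χ, -, hχ⟩ := hd
    exact CP.of_matrix hχ
  rw [e3]
  refine (((CP.conj y).mul ((hdC.mul (cp_field hp γ)).mul hdC.inv)).mul (CP.conj y).inv).congr ?_
  have h0 : ((1 : F ≃+* F))⁻¹ = 1 := inv_one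
  rw [h0]
  simp

include hp in
theorem outD_aux {p r f m : ℕ} [hpp : Fact p.Prime] (hF : Nat.card F = r ^ f) (hm0 : m ≠ 0) (hf0 : f ≠ 0)
    (hm : Nat.card (Out ↥(D.group F)) ∣ m * f) (hpm : ¬ p ∣ m) : Cfsg.Agent.H234.HT.OutD p r f (D.group F) where
  out := by
    have h1 := (Nat.factorization_le_iff_dvd (Nat.pos_of_dvd_of_pos hm
      (Nat.pos_of_ne_zero (Nat.mul_ne_zero hm0 hf0))).ne' (Nat.mul_ne_zero hm0 hf0)).2 hm p
    rw [Nat.factorization_mul hm0 hf0, Finsupp.add_apply, Nat.factorization_eq_zero_of_not_dvd hpm, zero_add] at h1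
    exact h1
  frob s hs x := by
    have h1 : s = RingHom.id F := by
      ext a
      rw [hs, ← hF]
      have : Fintype F := Fintype.ofFinite F
      rw [Nat.card_eq_fintype_card, FiniteField.pow_card]
      rfl
    rw [h1, Polynomial.map_id]
  phi s hs := by
    have hD := hp.inList
    obtain ⟨τ, hτ⟩ : ∃ τ : RingAut F, ∀ a, τ a = s a :=
      ⟨RingEquiv.ofBijective s (Finite.injective_iff_bijective.1 s.injective), fun a => rfl⟩
    have hτs : ((τ : F ≃+* F) : F →+* F) = s := RingHom.ext hτ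
    have hτp : ∀ (k : ℕ) (a : F), (τ ^ k) a = a ^ r ^ k := by
      intro k
      induction k with
      | zero => intro a; rw [pow_zero, pow_zero, pow_one]; rfl
      | succ k ih =>
        intro a
        rw [pow_succ, RingAut.mul_apply, hτ, hs, ih, ← pow_mul, pow_succ, mul_comm]
    have hτf : τ ^ f = 1 := by
      refine RingEquiv.ext fun a => ?_
      have : Fintype F := Fintype.ofFinite F
      rw [hτp, ← hF, Nat.card_eq_fintype_card, FiniteField.pow_card]
      rfl
    have hC := cp_field hp τ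
    refine ⟨fieldHom hD F τ, fun x => ?_, ⟨1, ?_, ?_⟩, fun g x => ?_⟩
    · have h1 := hC x
      rw [hτs] at h1
      exact h1
    · exact fun h => hpp.out.one_lt.ne' (Nat.dvd_one.1 h)
    · rw [one_mul, ← map_pow, hτf, map_one]
      exact one_mem _
    · have h1 := cp_conj_field hp g τ x
      have h2 := hC x
      exact h1.trans h2.symm

end untw

/-- **The data `OutD` for the untwisted exceptional groups.** -/
theorem outD_untw {D : ChevalleyDatum} (hD : D ∈ [chevG2, chevF4, chevE6, chevE7, chevE8]) {F : Type} [Field F]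
    [Finite F] [hs : IsSimpleGroup ↥(D.group F)] (hna : ¬ IsMulCommutative ↥(D.group F)) {p : ℕ} [Fact p.Prime]
    (hp5 : 5 ≤ p) {r f : ℕ} (hr : r.Prime) (hF : Nat.card F = r ^ f) :
    Cfsg.Agent.H234.HT.OutD p r f (D.group F) := by
  have hpp : p.Prime := Fact.out
  have : Fintype F := Fintype.ofFinite F
  have hrF : Fact r.Prime := ⟨hr⟩
  have hd6 : ∀ k : ℕ, k ∣ 6 → ¬ p ∣ k := by
    intro k hk h
    have h3 := Nat.le_of_dvd (by norm_num) (h.trans hk)
    have h4 : p ∣ 6 := h.trans hk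
    interval_cases p
    · exact absurd h4 (by norm_num)
    · exact absurd hpp (by norm_num)
  have hf0 : f ≠ 0 := by
    rintro rfl
    have h1 : 1 < Nat.card F := Finite.one_lt_card
    rw [hF, pow_zero] at h1
    exact absurd h1 (lt_irrefl _)
  have hf : 1 ≤ f := Nat.pos_of_ne_zero hf0
  have hF' : Fintype.card F = r ^ f := by rw [← Nat.card_eq_fintype_card, hF]
  have hCP : CharP F r := charP_of_card_eq_prime_pow hF'
  simp only [List.mem_cons, List.not_mem_nil, or_false] at hD
  rcases hD with rfl | rfl | rfl | rfl | rfl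
  · refine outD_aux (D := chevG2) (l := 2) (M := CoxeterMatrix.G₂) (by simp [IsType, typeList]) (m := 2) hF
      (by norm_num) hf0 ?_ (hd6 2 (by norm_num))
    rw [Cfsg.Agent.S2121.result r f hF' (by rw [← hF']; exact three_le_G2 hna)]
    split_ifs
    · exact dvd_rfl
    · exact Dvd.intro_left _ rfl
  · refine outD_aux (D := chevF4) (l := 4) (M := CoxeterMatrix.F₄) (by simp [IsType, typeList]) (m := 2) hF
      (by norm_num) hf0 ?_ (hd6 2 (by norm_num))
    rw [Cfsg.Agent.S2122.result r f hF']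
    exact mul_dvd_mul_right (Nat.gcd_dvd_left 2 _) _
  · refine outD_aux (D := chevE6) (l := 6) (M := CoxeterMatrix.E₆) (by simp [IsType, typeList]) (m := 6) hF
      (by norm_num) hf0 ?_ (hd6 6 (by norm_num))
    rw [Cfsg.Agent.S2123.result r f hF']
    exact mul_dvd_mul_right (mul_dvd_mul_left 2 (Nat.gcd_dvd_left 3 _)) _
  · refine outD_aux (D := chevE7) (l := 7) (M := CoxeterMatrix.E₇) (by simp [IsType, typeList]) (m := 2) hF
      (by norm_num) hf0 ?_ (hd6 2 (by norm_num))
    rw [Cfsg.Agent.S2124.result r f hF']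
    exact mul_dvd_mul_right (Nat.gcd_dvd_left 2 _) _
  · refine outD_aux (D := chevE8) (l := 8) (M := CoxeterMatrix.E₈) (by simp [IsType, typeList]) (m := 1) hF
      (by norm_num) hf0 ?_ (hd6 1 (by norm_num))
    rw [Cfsg.Agent.S2125.result r f hF', one_mul]

end Cfsg.Agent.H778.HT
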